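import Mathlib.AlgebraicGeometry.Morphisms.Flat
import Mathlib.AlgebraicGeometry.Morphisms.FinitePresentation
import Mathlib.AlgebraicGeometry.Morphisms.UniversallyOpen
import Mathlib.AlgebraicGeometry.Limits
import Mathlib.CategoryTheory.Sites.Hypercover.Zero
import Mathlib.AlgebraicGeometry.Sites.Etale

/-! # From an fppf covering family to a single fppf covering over a quasi-compact open -/

set_option autoImplicit false
universe w u

namespace K251.FamSingle

open AlgebraicGeometry CategoryTheory Limits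

/-- Over a quasi-compact open `U` of `S`, an fppf covering family of `S` is dominated, Zariski locally on the
source, by a single fppf covering of `U`. -/
theorem exists_single {S : Scheme.{u}} (E : PreZeroHypercover.{w} S)
    (hflat : ∀ i, Flat (E.f i)) (hfp : ∀ i, LocallyOfFinitePresentation (E.f i))
    (hsurj : ∀ t : S, ∃ (i : E.I₀) (x : E.X i), E.f i x = t) (U : S.Opens)
    (hU : IsCompact (U : Set S)) :
    ∃ (G : Scheme.{u}) (g : G ⟶ U.toScheme), Flat g ∧ LocallyOfFinitePresentation g ∧ Surjective g ∧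
      ∀ y : G, ∃ (V : G.Opens) (i : E.I₀) (r : V.toScheme ⟶ E.X i),
        y ∈ V ∧ r ≫ E.f i = V.ι ≫ g ≫ U.ι := by
  choose i x hx using hsurj
  have hop : ∀ t : S, IsOpen (Set.range (E.f (i t))) := fun t => by
    have := hflat (i t)
    have := hfp (i t)
    exact (E.f (i t)).isOpenMap.isOpen_range
  obtain ⟨F, hF⟩ := hU.elim_finite_subcover (fun t : S => Set.range (E.f (i t))) hop
    (fun t _ => Set.mem_iUnion.2 ⟨t, ⟨x t, hx t⟩⟩)
  let P : ↥F → Scheme.{u} := fun j => pullback (E.f (i j.1)) U.ι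
  let p : ∀ j : ↥F, P j ⟶ U.toScheme := fun j => pullback.snd (E.f (i j.1)) U.ι
  have h1 : ∀ j, Flat (p j) := fun j => by
    have := hflat (i j)
    dsimp only [p]; infer_instance
  have h2 : ∀ j, LocallyOfFinitePresentation (p j) := fun j => by
    have := hfp (i j)
    dsimp only [p]; infer_instance
  refine ⟨∐ P, Sigma.desc p, IsZariskiLocalAtSource.sigmaDesc (P := @Flat.{u}) h1,
    IsZariskiLocalAtSource.sigmaDesc (P := @LocallyOfFinitePresentation.{u}) h2, ⟨fun s => ?_⟩, fun y => ?_⟩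
  · have hs : (U.ι s : S) ∈ (U : Set S) := by
      rw [← Scheme.Opens.range_ι]; exact ⟨s, rfl⟩
    obtain ⟨j, hj, z, hz⟩ : ∃ j, ∃ (hj : j ∈ F), U.ι s ∈ Set.range (E.f (i j)) := by
      simpa using hF hs
    obtain ⟨w, hw1, hw2⟩ := Scheme.Pullback.exists_preimage_pullback (f := E.f (i j)) (g := U.ι)
      z s hz
    refine ⟨Sigma.ι P ⟨j, hj⟩ w, ?_⟩
    rw [← Scheme.Hom.comp_apply, Sigma.ι_desc]
    exact hw2
  · obtain ⟨j, z, hz⟩ : ∃ (j : ↥F) (z : P j), Sigma.ι P j z = y := (sigmaOpenCover P).exists_eq y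
    let φ : P j ⟶ ∐ P := Sigma.ι P j
    have hφ : IsOpenImmersion φ := by dsimp only [φ]; infer_instance
    refine ⟨φ.opensRange, i j.1, φ.isoOpensRange.inv ≫ pullback.fst (E.f (i j.1)) U.ι, ⟨z, hz⟩, ?_⟩
    rw [Category.assoc, pullback.condition]
    have : φ.isoOpensRange.inv ≫ φ ≫ Sigma.desc p = φ.opensRange.ι ≫ Sigma.desc p := by
      rw [← Category.assoc, Scheme.Hom.isoOpensRange_inv_comp]
    have h3 : φ ≫ Sigma.desc p = pullback.snd (E.f (i j.1)) U.ι := Sigma.ι_desc _ _
    rw [h3] at this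
    rw [← Category.assoc, this, Category.assoc]

end K251.FamSingle
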