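import Groth.Agent.Grpsch.CubeTriv

/-!
# Openness of the locus of triviality of an invertible module on a product with sections
(the local statement behind the theorem of the cube), with the hypothesis `O_T = f_* O` universally
in place of geometric integrality.
-/

set_option autoImplicit false
universe u v

open AlgebraicGeometry CategoryTheory Limits IsLocalRing
open Groth.Agent.Fdesc Groth.Agent.Fdesc.LocGen

namespace Groth.Agent.FlatMor.K251.CubeO

open Groth.Agent.Grpsch Groth.Agent.Grpsch.CubeData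

variable {S T : Scheme.{u}}

/-- `O_T = (f_T)_* O` for every base change. -/
def UnivO {X S : Scheme.{u}} (f : X ⟶ S) : Prop :=
  ∀ (T : Scheme.{u}) (t : T ⟶ S) (U : T.Opens), IsIso ((pullback.snd f t).app U)

lemma isIso_app_of_isIso {X Y : Scheme.{u}} (f : X ⟶ Y) [IsIso f] (U : Y.Opens) :
    IsIso (f.app U) := by
  exact inferInstance

lemma UnivO.of_isPullback {X S X' T : Scheme.{u}} {f : X ⟶ S} (h : UnivO f) {a : X' ⟶ X}
    {f' : X' ⟶ T} {t : T ⟶ S} (H : IsPullback a f' f t) (U : T.Opens) : IsIso (f'.app U) := by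
  have h1 : f' = H.isoPullback.hom ≫ pullback.snd f t := by simp
  have h2 := h T t U
  have h3 : ∀ f'' : X' ⟶ T, f'' = H.isoPullback.hom ≫ pullback.snd f t → IsIso (f''.app U) := by
    rintro _ rfl
    rw [Scheme.Hom.comp_app]
    exact @IsIso.comp_isIso _ _ _ _ _ _ _ h2 (isIso_app_of_isIso _ _)
  exact h3 _ h1

lemma UnivO.baseChange {X S X' T : Scheme.{u}} {f : X ⟶ S} (h : UnivO f) {a : X' ⟶ X}
    {f' : X' ⟶ T} {t : T ⟶ S} (H : IsPullback a f' f t) : UnivO f' := by
  intro T' t' U
  have H' : IsPullback (pullback.fst f' t') (pullback.snd f' t') f' t' := .of_hasPullback _ _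
  exact h.of_isPullback (H'.paste_horiz H) U

lemma UnivO.comp {X Y S : Scheme.{u}} {f : X ⟶ Y} {g : Y ⟶ S} (hf : UnivO f) (hg : UnivO g) :
    UnivO (f ≫ g) := by
  intro T t U
  have H1 : IsPullback (pullback.fst g t) (pullback.snd g t) g t := .of_hasPullback _ _
  have H2 : IsPullback (pullback.fst f (pullback.fst g t)) (pullback.snd f (pullback.fst g t)) f
    (pullback.fst g t) := .of_hasPullback _ _
  have H3 := H2.paste_vert H1
  have h1 : pullback.snd (f ≫ g) t = (IsPullback.isoIsPullback _ _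
    (IsPullback.of_hasPullback (f ≫ g) t) H3).hom ≫ (pullback.snd f (pullback.fst g t) ≫
      pullback.snd g t) := by
    simp
  rw [h1]
  have i1 := hg T t U
  have i2 := hf _ (pullback.fst g t) ((pullback.snd g t) ⁻¹ᵁ U)
  have i3 : IsIso ((pullback.snd f (pullback.fst g t) ≫ pullback.snd g t).app U) := by
    rw [Scheme.Hom.comp_app]
    exact @IsIso.comp_isIso _ _ _ _ _ _ _ i1 i2
  rw [Scheme.Hom.comp_app]
  exact @IsIso.comp_isIso _ _ _ _ _ _ _ i3 (isIso_app_of_isIso _ _)

lemma UnivO.bijective {X S : Scheme.{u}} {f : X ⟶ S} (h : UnivO f) :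
    Function.Bijective f.appTop.hom := by
  have h1 : IsIso f.appTop := h.of_isPullback (IsPullback.of_id_fst (f := f)) ⊤
  exact ConcreteCategory.bijective_of_isIso f.appTop

/-- Flatness, properness, finite presentation, and `O = f_* O` universally. -/
structure GoodO (D : Data S) : Prop where
  flatX : Flat D.pX
  properX : IsProper D.pX
  lfpX : LocallyOfFinitePresentation D.pX
  oX : UnivO D.pX
  flatY : Flat D.pY
  properY : IsProper D.pY
  lfpY : LocallyOfFinitePresentation D.pY
  oY : UnivO D.pY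

variable {D : Data S}

lemma GoodO.baseChange (h : GoodO D) (a : T ⟶ S) : GoodO (D.baseChange a) where
  flatX := have := h.flatX; inferInstanceAs (Flat (pullback.snd D.pX a))
  properX := have := h.properX; inferInstanceAs (IsProper (pullback.snd D.pX a))
  lfpX := have := h.lfpX; inferInstanceAs (LocallyOfFinitePresentation (pullback.snd D.pX a))
  oX := UnivO.baseChange (f' := pullback.snd D.pX a) h.oX (.of_hasPullback _ _)
  flatY := have := h.flatY; inferInstanceAs (Flat (pullback.snd D.pY a))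
  properY := have := h.properY; inferInstanceAs (IsProper (pullback.snd D.pY a))
  lfpY := have := h.lfpY; inferInstanceAs (LocallyOfFinitePresentation (pullback.snd D.pY a))
  oY := UnivO.baseChange (f' := pullback.snd D.pY a) h.oY (.of_hasPullback _ _)

lemma GoodO.flat (h : GoodO D) : Flat D.p := by
  have := h.flatX
  have := h.flatY
  have : Flat D.q₁ := MorphismProperty.of_isPullback D.H.flip h.flatY
  infer_instance

lemma GoodO.proper (h : GoodO D) : IsProper D.p := by
  have := h.properX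
  have : IsProper D.q₁ := MorphismProperty.of_isPullback D.H.flip h.properY
  infer_instance

lemma GoodO.lfp (h : GoodO D) : LocallyOfFinitePresentation D.p := by
  have := h.lfpX
  have : LocallyOfFinitePresentation D.q₁ := MorphismProperty.of_isPullback D.H.flip h.lfpY
  infer_instance

lemma GoodO.o (h : GoodO D) : UnivO D.p :=
  UnivO.comp (h.oY.baseChange D.H.flip) h.oX

/-- Lifting triviality along a small closed immersion of local affine schemes. -/
lemma GoodO.triv_of_small [IsAffine S] [IsLocalRing Γ(S, ⊤)] (h : GoodO D) {S' : Scheme.{u}}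
    (g : S' ⟶ S) [IsClosedImmersion g] [Surjective g] (ε : Γ(S, ⊤))
    (hε : ∀ a : Γ(S, ⊤), a * ε = 0 ↔ a ∈ maximalIdeal Γ(S, ⊤))
    (hεm : ε ∈ maximalIdeal Γ(S, ⊤)) (hg : RingHom.ker g.appTop.hom = Ideal.span {ε})
    (L : D.P.Modules) (hL : PicF.IsInvertible L)
    (hs : Triv ((Scheme.Modules.pullback D.s).obj L))
    (hs' : Triv ((Scheme.Modules.pullback D.s').obj L))
    (hS' : Triv ((Scheme.Modules.pullback (pullback.fst D.p g)).obj L)) : Triv L := by
  have := h.flatX
  have := h.properX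
  have := h.lfpX
  have := h.flatY
  have := h.properY
  have := h.lfpY
  obtain ⟨τ, hτ⟩ := triv_iff.mp hs
  obtain ⟨τ', hτ'⟩ := triv_iff.mp hs'
  obtain ⟨ρ, hρ⟩ := triv_iff.mp hS'
  exact triv_iff.mpr (CubeDeform.deform (k := pullback.fst D.pY g) (pY' := pullback.snd D.pY g)
    D.H rfl D.q₂_pY (.of_hasPullback D.p g)
    (.of_hasPullback D.pY g) ε hε hεm hg h.oX.bijective.2 h.oY.bijective.2
    (UnivO.bijective (h.oY.baseChange (.of_hasPullback D.pY g))).2
    D.hx D.hy D.hs₁ D.hs₂ D.hs'₁ hL hτ hτ' hρ)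

/-- Lifting triviality along `Spec B ⟶ Spec A`, `B = A / (t)` with `Ann t = 𝔪`. -/
lemma GoodO.triv_of_small_spec {A B : CommRingCat.{u}} [IsLocalRing A] (φ : A ⟶ B)
    (hφ : Function.Surjective φ.hom) (t : A) (ht : t ≠ 0) (htm : t ∈ maximalIdeal A)
    (hmt : ∀ a ∈ maximalIdeal A, a * t = 0) (hker : RingHom.ker φ.hom = Ideal.span {t})
    {D : Data (Spec A)} (h : GoodO D) (L : D.P.Modules) (hL : PicF.IsInvertible L)
    (hs : Triv ((Scheme.Modules.pullback D.s).obj L))
    (hs' : Triv ((Scheme.Modules.pullback D.s').obj L))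
    (hS' : Triv ((Scheme.Modules.pullback (pullback.fst D.p (Spec.map φ))).obj L)) :
    Triv L := by
  have hci : IsClosedImmersion (Spec.map φ) := IsClosedImmersion.spec_of_surjective φ hφ
  have hsurj : Surjective (Spec.map φ) := by
    have h1 : ∀ x : PrimeSpectrum A, x ∈ Set.range (PrimeSpectrum.comap φ.hom) := by
      intro x
      rw [range_comap_of_surjective _ _ hφ, hker, PrimeSpectrum.mem_zeroLocus,
        SetLike.coe_subset_coe, Ideal.span_singleton_le_iff_mem]
      exact x.isPrime.mem_of_pow_mem 2 (by rw [pow_two, hmt t htm]; exact zero_mem _)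
    exact ⟨h1⟩
  refine h.triv_of_small (Spec.map φ) ((Scheme.ΓSpecIso A).inv.hom t) ?_ ?_
    (ker_appTop_specMap φ t hker) L hL hs hs' hS'
  · intro a
    obtain ⟨a, rfl⟩ : ∃ b, (Scheme.ΓSpecIso A).inv.hom b = a :=
      ⟨(Scheme.ΓSpecIso A).hom.hom a, congr(($((Scheme.ΓSpecIso A).hom_inv_id)).hom a)⟩
    rw [mem_maximalIdeal_ΓSpec, ← map_mul]
    have hb : Function.Bijective (Scheme.ΓSpecIso A).inv.hom :=
      ConcreteCategory.bijective_of_isIso (Scheme.ΓSpecIso A).inv
    rw [map_eq_zero_iff _ hb.1]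
    refine ⟨fun h0 => ?_, hmt a⟩
    by_contra hu
    rw [mem_maximalIdeal, mem_nonunits_iff, not_not] at hu
    exact ht ((hu.mul_right_eq_zero).mp h0)
  · rw [mem_maximalIdeal_ΓSpec]; exact htm

/-- Lifting triviality along `Spec (O / I₂) ⟶ Spec (O / I₁)`. -/
lemma GoodO.triv_of_quot (h : GoodO D) (L : D.P.Modules) (hL : PicF.IsInvertible L)
    (hs : Triv ((Scheme.Modules.pullback D.s).obj L))
    (hs' : Triv ((Scheme.Modules.pullback D.s').obj L))
    (O : CommRingCat.{u}) [IsLocalRing O] (b : Spec O ⟶ S) (I₁ : Ideal O) (t : O) (ht : t ∉ I₁)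
    (htm : t ∈ maximalIdeal O) (hmt : ∀ a ∈ maximalIdeal O, a * t ∈ I₁)
    (hT : Triv ((Scheme.Modules.pullback (pullback.fst D.p
      (Spec.map (CommRingCat.ofHom (Ideal.Quotient.mk (I₁ ⊔ Ideal.span {t}))) ≫ b))).obj L)) :
    Triv ((Scheme.Modules.pullback (pullback.fst D.p
      (Spec.map (CommRingCat.ofHom (Ideal.Quotient.mk I₁)) ≫ b))).obj L) := by
  have hne : I₁ ≠ ⊤ := fun h0 => ht (h0 ▸ Submodule.mem_top)
  have : Nontrivial (O ⧸ I₁) := Ideal.Quotient.nontrivial_iff.mpr hne
  have hloc : IsLocalRing (CommRingCat.of (O ⧸ I₁)) :=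
    IsLocalRing.of_surjective' (Ideal.Quotient.mk I₁) Ideal.Quotient.mk_surjective
  let φ : CommRingCat.of (O ⧸ I₁) ⟶ CommRingCat.of (O ⧸ (I₁ ⊔ Ideal.span {t})) :=
    CommRingCat.ofHom (Ideal.Quotient.factor le_sup_left)
  let a : Spec (CommRingCat.of (O ⧸ I₁)) ⟶ S :=
    Spec.map (CommRingCat.ofHom (Ideal.Quotient.mk I₁)) ≫ b
  have hφa : Spec.map φ ≫ a =
      Spec.map (CommRingCat.ofHom (Ideal.Quotient.mk (I₁ ⊔ Ideal.span {t}))) ≫ b := by
    rw [← Category.assoc, ← Spec.map_comp]
    rfl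
  have hloc' : IsLocalHom (Ideal.Quotient.mk I₁) :=
    IsLocalHom.of_surjective _ Ideal.Quotient.mk_surjective
  refine (h.baseChange a).triv_of_small_spec φ (Ideal.Quotient.factor_surjective le_sup_left)
    (Ideal.Quotient.mk I₁ t) (fun h0 => ht (Ideal.Quotient.eq_zero_iff_mem.mp h0)) ?_ ?_ ?_
    ((Scheme.Modules.pullback (pullback.fst (D.q₁ ≫ D.pX) a)).obj L)
    (isInvertible_pullback _ hL) ?_ ?_ ?_
  · exact (mem_maximalIdeal _).mpr fun hu =>
      (mem_maximalIdeal t).mp htm (isUnit_of_map_unit (Ideal.Quotient.mk I₁) t hu)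
  · intro c hc
    obtain ⟨c, rfl⟩ := Ideal.Quotient.mk_surjective c
    have h1 : c ∈ maximalIdeal O := (mem_maximalIdeal c).mpr fun hu =>
      (mem_maximalIdeal _).mp hc (hu.map (Ideal.Quotient.mk I₁))
    exact (map_mul (Ideal.Quotient.mk I₁) c t).symm.trans
      (Ideal.Quotient.eq_zero_iff_mem.mpr (hmt c h1))
  · have h1 : RingHom.ker (Ideal.Quotient.factor (le_sup_left : I₁ ≤ I₁ ⊔ Ideal.span {t})) =
        (I₁ ⊔ Ideal.span {t}).map (Ideal.Quotient.mk I₁) := Ideal.Quotient.factor_ker _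
    refine h1.trans ?_
    rw [Ideal.map_sup, Ideal.map_quotient_self, bot_sup_eq, Ideal.map_span, Set.image_singleton]
  · exact triv_square (f := pullback.fst D.pY a) (g := D.s) (D.bs_fst a).symm L hs
  · exact triv_square (f := pullback.fst D.pX a) (g := D.s') (D.bs'_fst a).symm L hs'
  · rw [← hφa] at hT
    exact triv_baseChange D.p a (Spec.map φ) (D.baseChange a).p (D.bq₁_snd a) L hT

/-- The locus of triviality is represented by an open subscheme containing each point over which
the module is trivial. -/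
theorem GoodO.exists_open (h : GoodO D) (L : D.P.Modules) (hL : PicF.IsInvertible L)
    (hs : Triv ((Scheme.Modules.pullback D.s).obj L))
    (hs' : Triv ((Scheme.Modules.pullback D.s').obj L)) (z : S)
    (hz : Triv ((Scheme.Modules.pullback (D.p.fiberι z)).obj L)) :
    ∃ U : S.Opens, z ∈ U ∧ Triv ((Scheme.Modules.pullback (pullback.fst D.p U.ι)).obj L) := by
  have := h.flat
  have := h.proper
  have := h.lfp
  obtain ⟨W, j, hj1, hj2, hj⟩ := S1431.result D.p
    (fun T g U => h.o T g U) L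
    (CubeClosed.isFinLocFree_of_isInvertible hL)
  have key : ∀ (T : Scheme.{u}) (a : T ⟶ S), (∃ g', g' ≫ j = a) ↔
      Triv ((Scheme.Modules.pullback (pullback.fst D.p a)).obj L) :=
    fun T a => (hj T a).trans (D.exists_iff_triv a L hs)
  have hopen : IsOpenImmersion j :=
    CubeOpen2.isOpenImmersion_of_lift j (fun z I₁ t ht htm hmt hg => (key _ _).mpr
      (h.triv_of_quot L hL hs hs' (S.presheaf.stalk z) (S.fromSpecStalk z) I₁ t ht htm hmt
        ((key _ _).mp hg)))
  refine ⟨j.opensRange, ?_, ?_⟩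
  · obtain ⟨g', hg'⟩ := (key _ (S.fromSpecResidueField z)).mpr hz
    obtain ⟨pt⟩ : Nonempty (Spec (S.residueField z)) := inferInstance
    refine ⟨g' pt, ?_⟩
    rw [← Scheme.Hom.comp_apply, hg', Scheme.fromSpecResidueField_apply]
  · refine (key _ _).mp ⟨IsOpenImmersion.lift j j.opensRange.ι (by simp), by simp⟩

end Groth.Agent.FlatMor.K251.CubeO
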