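import Groth.Agent.FlatMor.K251.MorSBasic

/-!
# Affine charts of `Mor_S(Z, X)`
-/

set_option autoImplicit false
universe u

open CategoryTheory CategoryTheory.Limits AlgebraicGeometry Opposite Groth.Agent.Picfga.OverRep
open scoped TensorProduct

namespace K251.MorS

open Groth.Agent.Pi1C.WeilAlg

variable {Z X S : Scheme.{u}} {g : Z ⟶ S} {f : X ⟶ S}
  {R B C : Type u} [CommRing R] [CommRing B] [CommRing C] [Algebra R B] [Algebra R C]
  (iV : Spec (CommRingCat.of R) ⟶ S)
  {iZ : Spec (CommRingCat.of B) ⟶ Z}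
  (hZ : IsPullback iZ (Spec.map (CommRingCat.ofHom (algebraMap R B))) g iV)
  {iU : Spec (CommRingCat.of C) ⟶ X}
  (hU : iU ≫ f = Spec.map (CommRingCat.ofHom (algebraMap R C)) ≫ iV)

/-- `Spec A` over `S`, for an `R`-algebra `A`. -/
noncomputable abbrev TA (A : Type u) [CommRing A] [Algebra R A] : Over S :=
  Over.mk (Spec.map (CommRingCat.ofHom (algebraMap R A)) ≫ iV)

include hZ in
lemma isPb (A : Type u) [CommRing A] [Algebra R A] :
    IsPullback (Spec.map (CommRingCat.ofHom (Algebra.TensorProduct.includeLeftRingHom : A →+* A ⊗[R] B)))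
      (Spec.map (CommRingCat.ofHom (Algebra.TensorProduct.includeRight : B →ₐ[R] A ⊗[R] B).toRingHom) ≫ iZ)
      (TA iV A).hom g := by
  have h1 := isPullback_SpecMap_of_isPushout _ _ _ _ (CommRingCat.isPushout_tensorProduct R A B)
  exact (h1.flip.paste_horiz hZ).flip

/-- `Spec (A ⊗ B) ≅ Spec A ×_S Z`. -/
noncomputable def iA (A : Type u) [CommRing A] [Algebra R A] :
    Spec (CommRingCat.of (A ⊗[R] B)) ≅ pullback (TA iV A).hom g := (isPb iV hZ A).isoPullback

lemma iA_hom_fst (A : Type u) [CommRing A] [Algebra R A] :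
    (iA iV hZ A).hom ≫ pullback.fst (TA iV A).hom g =
      Spec.map (CommRingCat.ofHom (Algebra.TensorProduct.includeLeftRingHom : A →+* A ⊗[R] B)) :=
  (isPb iV hZ A).isoPullback_hom_fst

lemma iA_hom_snd (A : Type u) [CommRing A] [Algebra R A] :
    (iA iV hZ A).hom ≫ pullback.snd (TA iV A).hom g =
      Spec.map (CommRingCat.ofHom (Algebra.TensorProduct.includeRight : B →ₐ[R] A ⊗[R] B).toRingHom) ≫ iZ :=
  (isPb iV hZ A).isoPullback_hom_snd

/-- Functoriality in the algebra. -/
noncomputable def specHom {A A' : Type u} [CommRing A] [Algebra R A] [CommRing A'] [Algebra R A']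
    (h : A →ₐ[R] A') : TA iV A' ⟶ TA iV A :=
  Over.homMk (Spec.map (CommRingCat.ofHom h.toRingHom)) (by
    change Spec.map (CommRingCat.ofHom h.toRingHom) ≫ Spec.map (CommRingCat.ofHom (algebraMap R A)) ≫ iV =
      Spec.map (CommRingCat.ofHom (algebraMap R A')) ≫ iV
    rw [← Category.assoc, ← Spec.map_comp, ← CommRingCat.ofHom_comp]
    congr 3
    exact h.comp_algebraMap)

lemma specHom_left {A A' : Type u} [CommRing A] [Algebra R A] [CommRing A'] [Algebra R A']
    (h : A →ₐ[R] A') : (specHom iV h).left = Spec.map (CommRingCat.ofHom h.toRingHom) := rfl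

lemma iA_pm {A A' : Type u} [CommRing A] [Algebra R A] [CommRing A'] [Algebra R A']
    (h : A →ₐ[R] A') : (iA iV hZ A').hom ≫ pm g (specHom iV h) =
      Spec.map (CommRingCat.ofHom (Algebra.TensorProduct.map h (AlgHom.id R B)).toRingHom) ≫
        (iA iV hZ A).hom := by
  apply pullback.hom_ext
  · rw [Category.assoc, pm_fst, Category.assoc, iA_hom_fst, ← Category.assoc, iA_hom_fst,
      specHom_left, ← Spec.map_comp, ← Spec.map_comp, ← CommRingCat.ofHom_comp,
      ← CommRingCat.ofHom_comp]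
    congr 2
  · rw [Category.assoc, pm_snd, Category.assoc, iA_hom_snd, iA_hom_snd, ← Category.assoc,
      ← Spec.map_comp, ← CommRingCat.ofHom_comp]
    congr 3
    ext b
    simp

include hU in
lemma xi_aux {W : Type u} [CommRing W] [Algebra R W] (ev : C →ₐ[R] W ⊗[R] B) :
    ((iA iV hZ W).inv ≫ Spec.map (CommRingCat.ofHom ev.toRingHom) ≫ iU) ≫ f =
      pullback.snd (TA iV W).hom g ≫ g := by
  rw [Category.assoc, Category.assoc, hU, Iso.inv_comp_eq, ← Category.assoc (Spec.map _),
    ← Spec.map_comp, ← CommRingCat.ofHom_comp, ← Category.assoc (iA iV hZ W).hom, iA_hom_snd,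
    Category.assoc, hZ.w, ← Category.assoc, ← Spec.map_comp, ← CommRingCat.ofHom_comp]
  congr 3
  ext r
  simp

/-- the universal element over the chart. -/
noncomputable def xi {W : Type u} [CommRing W] [Algebra R W] (ev : C →ₐ[R] W ⊗[R] B) :
    (Flatn.morS g f).obj (op (TA iV W)) :=
  mk _ ((iA iV hZ W).inv ≫ Spec.map (CommRingCat.ofHom ev.toRingHom) ≫ iU) (xi_aux iV hZ hU ev)

theorem up_affine [Mono iV] [IsOpenImmersion iU] {W : Type u} [CommRing W] [Algebra R W]
    {ev : C →ₐ[R] W ⊗[R] B} (hev : IsRep ev) (A : Type u) [CommRing A] [Algebra R A]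
    (y : (Flatn.morS g f).obj (op (TA iV A))) (hy : Set.range (lf y) ⊆ Set.range iU) :
    ∃! k : TA iV A ⟶ TA iV W, (Flatn.morS g f).map k.op (xi iV hZ hU ev) = y := by
  -- the algebra map given by `y`
  obtain ⟨β', hβ'⟩ := Spec.map_surjective (IsOpenImmersion.lift iU ((iA iV hZ A).hom ≫ lf y) (by
    rintro _ ⟨z, rfl⟩
    exact hy ⟨_, rfl⟩))
  have hβ : Spec.map β' ≫ iU = (iA iV hZ A).hom ≫ lf y := by
    rw [hβ', IsOpenImmersion.lift_fac]
  let β : C →ₐ[R] A ⊗[R] B :=
    { β'.hom with
      commutes' := by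
        have h1 : Spec.map β' ≫ Spec.map (CommRingCat.ofHom (algebraMap R C)) ≫ iV =
            Spec.map (CommRingCat.ofHom (algebraMap R (A ⊗[R] B))) ≫ iV := by
          rw [← hU, ← Category.assoc, hβ, Category.assoc, lf_w, ← Category.assoc, iA_hom_snd,
            Category.assoc, hZ.w, ← Category.assoc, ← Spec.map_comp, ← CommRingCat.ofHom_comp]
          congr 3
          ext r
          simp
        rw [← Category.assoc, cancel_mono, ← Spec.map_comp] at h1
        have h2 := Spec.map_injective h1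
        intro r
        exact congrArg (fun m => m.hom r) h2 }
  have hβhom : CommRingCat.ofHom β.toRingHom = β' := rfl
  obtain ⟨h, hh⟩ := (hev A).2 β
  have hh' : push ev h = β := hh
  -- computation of the pull back of `xi`
  have key : ∀ h : W →ₐ[R] A, (iA iV hZ A).hom ≫
      lf ((Flatn.morS g f).map (specHom iV h).op (xi iV hZ hU ev)) =
        Spec.map (CommRingCat.ofHom (push ev h).toRingHom) ≫ iU := by
    intro h
    rw [lf_map, ← Category.assoc, iA_pm, Category.assoc]
    change _ ≫ (iA iV hZ W).hom ≫ (iA iV hZ W).inv ≫ Spec.map (CommRingCat.ofHom ev.toRingHom) ≫ iU = _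
    rw [Iso.hom_inv_id_assoc, ← Category.assoc, ← Spec.map_comp, ← CommRingCat.ofHom_comp]
    rfl
  refine ⟨specHom iV h, ?_, ?_⟩
  · apply lf_injective
    rw [← cancel_epi (iA iV hZ A).hom, key h, hh', hβhom, hβ]
  · intro k hk
    obtain ⟨k', hk'⟩ := Spec.map_surjective k.left
    let h₁ : W →ₐ[R] A :=
      { k'.hom with
        commutes' := by
          have h1 : Spec.map k' ≫ Spec.map (CommRingCat.ofHom (algebraMap R W)) ≫ iV =
            Spec.map (CommRingCat.ofHom (algebraMap R A)) ≫ iV := by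
            rw [hk']; exact Over.w k
          rw [← Category.assoc, cancel_mono, ← Spec.map_comp] at h1
          have h2 := Spec.map_injective h1
          intro r
          exact congrArg (fun m => m.hom r) h2 }
    have hk1 : k = specHom iV h₁ := Over.OverMorphism.ext hk'.symm
    rw [hk1] at hk ⊢
    congr 1
    apply (hev A).1
    change push ev h₁ = push ev h
    rw [hh']
    have h3 := key h₁
    rw [hk, ← hβ, cancel_mono] at h3
    have h4 := Spec.map_injective h3
    ext c
    exact congrArg (fun m => m.hom c) h4.symm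

theorem up_affine' [Mono iV] [IsOpenImmersion iU] {W : Type u} [CommRing W] [Algebra R W]
    {ev : C →ₐ[R] W ⊗[R] B} (hev : IsRep ev) (A : CommRingCat.{u}) (s : Spec A ⟶ S)
    (ρ : Spec A ⟶ Spec (CommRingCat.of R)) (hs : ρ ≫ iV = s)
    (y : (Flatn.morS g f).obj (op (Over.mk s))) (hy : Set.range (lf y) ⊆ Set.range iU) :
    ∃! k : Over.mk s ⟶ TA iV W, (Flatn.morS g f).map k.op (xi iV hZ hU ev) = y := by
  subst hs
  obtain ⟨ρ', rfl⟩ := Spec.map_surjective ρ
  let _ : Algebra R A := ρ'.hom.toAlgebra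
  exact up_affine iV hZ hU hev A y hy

end K251.MorS
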