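import Groth.Prelude.Def_Flatn
import Groth.Prelude.Def_Mor2
import Groth.Agent.Picfga.OverRep
import Groth.Agent.Pi1C.WeilAlg

/-!
# The functor `Mor_S(Z, X)`: elementary description, the Zariski sheaf condition, affine charts

`Flatn.morS g f` for `g : Z ⟶ S`, `f : X ⟶ S`.
* `lf`, `mk`, `lf_map`: elements over `T` are morphisms `pullback T.hom g ⟶ X` over `S`;
* `isZarSheaf_morS`;
* `Chart`: for an affine open `V` of `S` over which `Z` is finite locally free and an affine open `U` of `X` lying over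
  `V`, the Weil restriction of `U` (`Groth.Agent.Pi1C.WeilAlg`), with its universal property on affine schemes.
-/

set_option autoImplicit false
universe u

open CategoryTheory CategoryTheory.Limits AlgebraicGeometry Opposite Groth.Agent.Picfga.OverRep

namespace K251.MorS

variable {Z X S : Scheme.{u}} (g : Z ⟶ S) (f : X ⟶ S)

/-- the base change `T' ×_S Z ⟶ T ×_S Z`. -/
noncomputable def pm {T T' : Over S} (φ : T' ⟶ T) : pullback T'.hom g ⟶ pullback T.hom g :=
  pullback.lift (pullback.fst _ _ ≫ φ.left) (pullback.snd _ _) (by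
    rw [Category.assoc, Over.w φ, pullback.condition])

@[reassoc (attr := simp)]
lemma pm_fst {T T' : Over S} (φ : T' ⟶ T) :
    pm g φ ≫ pullback.fst T.hom g = pullback.fst T'.hom g ≫ φ.left := pullback.lift_fst _ _ _

@[reassoc (attr := simp)]
lemma pm_snd {T T' : Over S} (φ : T' ⟶ T) :
    pm g φ ≫ pullback.snd T.hom g = pullback.snd T'.hom g := pullback.lift_snd _ _ _

lemma pm_comp {T T' T'' : Over S} (φ : T' ⟶ T) (ψ : T'' ⟶ T') :
    pm g (ψ ≫ φ) = pm g ψ ≫ pm g φ := by
  apply pullback.hom_ext <;> simp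

lemma isPullback_pm {T T' : Over S} (φ : T' ⟶ T) :
    IsPullback (pm g φ) (pullback.fst T'.hom g) (pullback.fst T.hom g) φ.left := by
  refine IsPullback.of_right (h₁₂ := pullback.snd T.hom g) (v₁₃ := g) (h₂₂ := T.hom) ?_
    (pm_fst g φ) (IsPullback.of_hasPullback T.hom g).flip
  rw [pm_snd, Over.w φ]
  exact (IsPullback.of_hasPullback T'.hom g).flip

variable {g f}

/-- The morphism underlying an element of `Mor_S(Z, X)(T)`. -/
noncomputable def lf {T : Over S} (b : (Flatn.morS g f).obj (op T)) : pullback T.hom g ⟶ X :=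
  CommaMorphism.left (show (Over.map g).obj ((Over.pullback g).obj T) ⟶ Over.mk f from b)

lemma lf_w {T : Over S} (b : (Flatn.morS g f).obj (op T)) : lf b ≫ f = pullback.snd T.hom g ≫ g :=
  Over.w (show (Over.map g).obj ((Over.pullback g).obj T) ⟶ Over.mk f from b)

/-- The element of `Mor_S(Z, X)(T)` given by an `S`-morphism `T ×_S Z ⟶ X`. -/
noncomputable def mk (T : Over S) (b : pullback T.hom g ⟶ X) (hb : b ≫ f = pullback.snd T.hom g ≫ g) :
    (Flatn.morS g f).obj (op T) :=
  (show (Over.map g).obj ((Over.pullback g).obj T) ⟶ Over.mk f from Over.homMk b hb)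

@[simp] lemma lf_mk (T : Over S) (b : pullback T.hom g ⟶ X) (hb : b ≫ f = pullback.snd T.hom g ≫ g) :
    lf (mk T b hb) = b := rfl

lemma lf_injective {T : Over S} {b b' : (Flatn.morS g f).obj (op T)} (h : lf b = lf b') : b = b' :=
  Over.OverMorphism.ext h

lemma lf_map {T T' : Over S} (φ : T' ⟶ T) (b : (Flatn.morS g f).obj (op T)) :
    lf ((Flatn.morS g f).map φ.op b) = pm g φ ≫ lf b := rfl

/-- the pulled back cover. -/
noncomputable def covPull (g : Z ⟶ S) {T : Over S} (𝒰 : Cov T) :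
    Cov (Over.mk (pullback.snd T.hom g ≫ g)) where
  ι := 𝒰.ι
  V i := Over.mk (pullback.snd (𝒰.V i).hom g ≫ g)
  j i := Over.homMk (pm g (𝒰.j i)) (by simp)
  isOpen i := MorphismProperty.of_isPullback (P := @IsOpenImmersion) (isPullback_pm g (𝒰.j i)).flip
    (𝒰.isOpen i)
  covers z := by
    obtain ⟨i, v, hv⟩ := 𝒰.covers (pullback.fst T.hom g z)
    obtain ⟨w, hw, -⟩ := Scheme.exists_preimage_of_isPullback
      (isPullback_pm g (𝒰.j i)) z v hv.symm
    exact ⟨i, w, hw⟩

theorem compat_aux {W T Ti Tk : Over S} (ji : Ti ⟶ T) (jk : Tk ⟶ T)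
    (xi : (Flatn.morS g f).obj (op Ti)) (xk : (Flatn.morS g f).obj (op Tk))
    (hx : ∀ (a : W ⟶ Ti) (b : W ⟶ Tk), a ≫ ji = b ≫ jk →
      (Flatn.morS g f).map a.op xi = (Flatn.morS g f).map b.op xk)
    (a : W.left ⟶ pullback Ti.hom g) (b : W.left ⟶ pullback Tk.hom g)
    (ha : a ≫ pullback.snd Ti.hom g ≫ g = W.hom) (hb : b ≫ pullback.snd Tk.hom g ≫ g = W.hom)
    (hab : a ≫ pm g ji = b ≫ pm g jk) : a ≫ lf xi = b ≫ lf xk := by
  let a₁ : W ⟶ Ti := Over.homMk (a ≫ pullback.fst _ _) (by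
    rw [Category.assoc, pullback.condition, ha])
  let b₁ : W ⟶ Tk := Over.homMk (b ≫ pullback.fst _ _) (by
    rw [Category.assoc, pullback.condition, hb])
  have h1 : a₁ ≫ ji = b₁ ≫ jk := by
    apply Over.OverMorphism.ext
    have := congrArg (fun m => m ≫ pullback.fst T.hom g) hab
    simpa [a₁, b₁] using this
  have h2 : a ≫ pullback.snd Ti.hom g = b ≫ pullback.snd Tk.hom g := by
    have := congrArg (fun m => m ≫ pullback.snd T.hom g) hab
    simpa using this
  have h3 := congrArg lf (hx a₁ b₁ h1)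
  rw [lf_map, lf_map] at h3
  let s : W.left ⟶ pullback W.hom g := pullback.lift (𝟙 _) (a ≫ pullback.snd _ _) (by
    rw [Category.id_comp, Category.assoc, ha])
  have hs1 : s ≫ pullback.fst W.hom g = 𝟙 W.left := pullback.lift_fst _ _ _
  have hs2 : s ≫ pullback.snd W.hom g = a ≫ pullback.snd _ _ := pullback.lift_snd _ _ _
  have hsa : s ≫ pm g a₁ = a := by
    apply pullback.hom_ext
    · rw [Category.assoc, pm_fst, reassoc_of% hs1]
      rfl
    · rw [Category.assoc, pm_snd, hs2]
  have hsb : s ≫ pm g b₁ = b := by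
    apply pullback.hom_ext
    · rw [Category.assoc, pm_fst, reassoc_of% hs1]
      rfl
    · rw [Category.assoc, pm_snd, hs2, h2]
  rw [← hsa, ← hsb, Category.assoc, Category.assoc, h3]

theorem isZarSheaf_morS : IsZarSheaf (Flatn.morS g f) := by
  intro T 𝒰 x hx
  have compat : ∀ (i k : 𝒰.ι) (W : Over S) (a : W ⟶ (covPull g 𝒰).V i) (b : W ⟶ (covPull g 𝒰).V k),
      a ≫ (covPull g 𝒰).j i = b ≫ (covPull g 𝒰).j k →
      a ≫ (show (covPull g 𝒰).V i ⟶ Over.mk f from x i) =
        b ≫ (show (covPull g 𝒰).V k ⟶ Over.mk f from x k) := by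
    intro i k W a b hab
    have hab' : a.left ≫ pm g (𝒰.j i) = b.left ≫ pm g (𝒰.j k) := congrArg CommaMorphism.left hab
    apply Over.OverMorphism.ext
    exact compat_aux (𝒰.j i) (𝒰.j k) (x i) (x k) (hx i k W) a.left b.left (Over.w a) (Over.w b) hab'
  obtain ⟨φ, hφ⟩ := glue_hom (Over.mk (pullback.snd T.hom g ≫ g)) (Over.mk f) (covPull g 𝒰)
    (fun i => x i) compat
  refine ⟨φ, fun i => hφ i, ?_⟩
  intro y hy
  apply hom_ext_cover (Over.mk (pullback.snd T.hom g ≫ g)) (Over.mk f) (covPull g 𝒰)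
  intro i
  exact (hy i).trans (hφ i).symm

end K251.MorS
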