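import Groth.Agent.FlatMor.K251.MorSRep

/-!
# Representability of `Mor_S(Z, X)` for `Z ⟶ S` finite locally free, from a family of affine charts
-/

set_option autoImplicit false
universe u

open CategoryTheory CategoryTheory.Limits AlgebraicGeometry Opposite Groth.Agent.Picfga.OverRep

namespace K251.MorS

variable {Z X S : Scheme.{u}} {g : Z ⟶ S} {f : X ⟶ S}

/-- A universal element gives a representation. -/
theorem representableBy_of_universal {F : (Over S)ᵒᵖ ⥤ Type u} {H : Over S} {Z₀ : F.obj (op H)}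
    (h : ∀ (T : Over S) (x : F.obj (op T)), ∃! k : T ⟶ H, F.map k.op Z₀ = x) :
    Nonempty (F.RepresentableBy H) :=
  ⟨{ homEquiv := fun {T} => Equiv.ofBijective (fun k : T ⟶ H => F.map k.op Z₀)
      ⟨fun a b hab => (h T (F.map a.op Z₀)).unique rfl (Eq.symm hab), fun x => (h T x).exists⟩
     homEquiv_comp := fun a b => by simp }⟩

theorem exists_rep (hg : Mor2.IsFinLocFree g) {ι : Type u} (V : ι → S.Opens) (U : ι → X.Opens)
    (hV : ∀ i, IsAffineOpen (V i)) (hU : ∀ i, IsAffineOpen (U i)) (hUV : ∀ i, U i ≤ f ⁻¹ᵁ (V i))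
    (cov : ∀ (T : Over S) (x : (Flatn.morS g f).obj (op T)) (t : T.left),
      ∃ i, T.hom t ∈ V i ∧ ∀ z, pullback.fst T.hom g z = t → lf x z ∈ U i) :
    ∃ (H : Over S) (Z₀ : (Flatn.morS g f).obj (op H)) (P : ι → Over S) (j : ∀ i, P i ⟶ H),
      (∀ (T : Over S) (x : (Flatn.morS g f).obj (op T)),
        ∃! k : T ⟶ H, (Flatn.morS g f).map k.op Z₀ = x) ∧
      (∀ i, IsAffine (P i).left) ∧ (∀ i, IsOpenImmersion (j i).left) ∧
      ∀ i (h : H.left), h ∈ Set.range (j i).left ↔
        H.hom h ∈ V i ∧ ∀ z, pullback.fst H.hom g z = h → lf Z₀ z ∈ U i := by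
  have := hg.1
  have hcl : ∀ T : Over S, IsClosedMap (pullback.fst T.hom g) := fun T =>
    (pullback.fst T.hom g).isClosedMap
  choose P ξ hPaff hPV hξU hξ using fun i => exists_chart hg (hV i) (hU i) (hUV i)
  -- points coming from a chart are in the locus
  have hloc : ∀ (i : ι) {T T' : Over S} (x : (Flatn.morS g f).obj (op T)) (g' : T' ⟶ T)
      (h : T' ⟶ P i), (Flatn.morS g f).map h.op (ξ i) = (Flatn.morS g f).map g'.op x →
      ∀ t : T'.left, T.hom (g'.left t) ∈ V i ∧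
        ∀ z, pullback.fst T.hom g z = g'.left t → lf x z ∈ U i := by
    intro i T T' x g' h hh t
    refine ⟨?_, fun z hz => ?_⟩
    · rw [← Scheme.Hom.comp_apply, Over.w g', ← Over.w h, Scheme.Hom.comp_apply]
      exact hPV i ⟨_, rfl⟩
    · obtain ⟨z', hz', -⟩ := Scheme.exists_preimage_of_isPullback (isPullback_pm g g') z t hz
      have hz'' : pm g g' z' = z := hz'
      rw [← hz'', ← Scheme.Hom.comp_apply, ← lf_map, ← hh, lf_map, Scheme.Hom.comp_apply]
      exact hξU i ⟨_, rfl⟩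
  let C : Charts (Flatn.morS g f) :=
    { ι := ι
      X := P
      ξ := ξ
      mono := fun i T a b hab => IsChart.mono (hξ i) (hPV i) (hξU i) T a b hab
      isOpen := fun i T x T' g' h hh t =>
        IsChart.exists_local (hξ i) hcl T x (g'.left t) (hloc i x g' h hh t).1 (hloc i x g' h hh t).2
      covers := fun T x t => by
        obtain ⟨i, h1, h2⟩ := cov T x t
        obtain ⟨T₁, k, h3, h4⟩ := IsChart.exists_local (hξ i) hcl T x t h1 h2
        exact ⟨i, T₁, k, h3, h4⟩ }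
  obtain ⟨H, Z₀, j, huniv, hjo, hjZ, -⟩ := C.exists_universal' isZarSheaf_morS
  refine ⟨H, Z₀, P, j, huniv, hPaff, hjo, fun i h => ⟨?_, ?_⟩⟩
  · rintro ⟨t, rfl⟩
    exact hloc i Z₀ (j i) (𝟙 _) (by
      rw [hjZ i]
      simp [C]) t
  · rintro ⟨h1, h2⟩
    obtain ⟨T₁, k, h3, h4⟩ := IsChart.exists_local (hξ i) hcl H Z₀ h h1 h2
    have h5 : k ≫ j i = res H T₁ := by
      refine (huniv _ ((Flatn.morS g f).map (res H T₁).op Z₀)).unique ?_ rfl
      change (Flatn.morS g f).map (k ≫ j i).op Z₀ = _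
      rw [map_comp_apply, ← h4]
      exact congrArg _ (hjZ i)
    have h6 := congrArg (fun m => m.left ⟨h, h3⟩) h5
    exact ⟨k.left ⟨h, h3⟩, h6⟩

end K251.MorS
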