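import Groth.Agent.FlatMor.K251.MorSAff

/-!
# Charts of `Mor_S(Z, X)` for `Z ⟶ S` finite locally free
-/

set_option autoImplicit false
universe u

open CategoryTheory CategoryTheory.Limits AlgebraicGeometry Opposite Groth.Agent.Picfga.OverRep
open scoped TensorProduct

namespace K251.MorS

open Groth.Agent.Pi1C.WeilAlg

variable {Z X S : Scheme.{u}} {g : Z ⟶ S} {f : X ⟶ S}

theorem isPullback_fromSpec [IsAffineHom g] {V : S.Opens} (hV : IsAffineOpen V)
    (hgV : IsAffineOpen (g ⁻¹ᵁ V)) :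
    IsPullback hgV.fromSpec (Spec.map (g.appLE V (g ⁻¹ᵁ V) le_rfl)) g hV.fromSpec := by
  refine IsPullback.of_iso (isPullback_morphismRestrict g V).flip hgV.isoSpec (Iso.refl _)
    hV.isoSpec (Iso.refl _) ?_ ?_ ?_ ?_
  · simp
  · rw [← cancel_mono hV.fromSpec, Category.assoc, Category.assoc, hV.isoSpec_hom_fromSpec,
      IsAffineOpen.SpecMap_appLE_fromSpec g hV hgV le_rfl, ← Category.assoc hgV.isoSpec.hom,
      hgV.isoSpec_hom_fromSpec, morphismRestrict_ι]
  · simp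
  · simp

/-- The chart attached to an affine open `V` of `S` and an affine open `U` of `X` above `V`. -/
theorem exists_chart (hg : Mor2.IsFinLocFree g) {V : S.Opens} (hV : IsAffineOpen V)
    {U : X.Opens} (hU : IsAffineOpen U) (hUV : U ≤ f ⁻¹ᵁ V) :
    ∃ (P : Over S) (ξ : (Flatn.morS g f).obj (op P)), IsAffine P.left ∧ Set.range P.hom ⊆ V ∧
      Set.range (lf ξ) ⊆ U ∧
      ∀ (A : CommRingCat.{u}) (s : Spec A ⟶ S) (y : (Flatn.morS g f).obj (op (Over.mk s))),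
        Set.range s ⊆ V → Set.range (lf y) ⊆ U →
          ∃! k : Over.mk s ⟶ P, (Flatn.morS g f).map k.op ξ = y := by
  obtain ⟨hg1, hg2, hg3⟩ := hg
  have hgV : IsAffineOpen (g ⁻¹ᵁ V) := hV.preimage g
  let R : Type u := Γ(S, V)
  let B : Type u := Γ(Z, g ⁻¹ᵁ V)
  let C : Type u := Γ(X, U)
  let _ : Algebra R B := (g.appLE V (g ⁻¹ᵁ V) le_rfl).hom.toAlgebra
  let _ : Algebra R C := (f.appLE V U hUV).hom.toAlgebra
  have hfin : Module.Finite R B := by
    have h1 : (g.app V).hom.Finite := IsFinite.finite_app g V hV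
    have h2 : (g.appLE V (g ⁻¹ᵁ V) le_rfl).hom.Finite := by
      rw [Scheme.Hom.appLE_eq_app]; exact h1
    exact h2
  have hflat : Module.Flat R B := HasRingHomProperty.appLE @Flat g inferInstance ⟨V, hV⟩ ⟨_, hgV⟩ le_rfl
  have hfp : Algebra.FinitePresentation R B := g.finitePresentation_appLE hV hgV le_rfl
  have hfp' : Module.FinitePresentation R B := Module.FinitePresentation.of_finite_of_finitePresentation R B
  have hproj : Module.Projective R B := Module.Flat.projective_of_finitePresentation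
  obtain ⟨W, _, _, ev, hev⟩ := exists_isRep R B C
  have hZ : IsPullback hgV.fromSpec (Spec.map (CommRingCat.ofHom (algebraMap R B))) g hV.fromSpec :=
    isPullback_fromSpec hV hgV
  have hUf : hU.fromSpec ≫ f = Spec.map (CommRingCat.ofHom (algebraMap R C)) ≫ hV.fromSpec :=
    (IsAffineOpen.SpecMap_appLE_fromSpec f hV hU hUV).symm
  refine ⟨TA hV.fromSpec W, xi hV.fromSpec hZ hUf ev, ?_, ?_, ?_, ?_⟩
  · exact inferInstanceAs (IsAffine (Spec _))
  · rintro _ ⟨z, rfl⟩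
    have : Set.range hV.fromSpec = V := hV.range_fromSpec
    rw [← this]
    exact ⟨_, rfl⟩
  · have : Set.range hU.fromSpec = U := hU.range_fromSpec
    rw [← this]
    rintro _ ⟨z, rfl⟩
    exact ⟨_, rfl⟩
  · intro A s y hs hy
    have hs' : Set.range s ⊆ Set.range hV.fromSpec := by rw [hV.range_fromSpec]; exact hs
    have hy' : Set.range (lf y) ⊆ Set.range hU.fromSpec := by rw [hU.range_fromSpec]; exact hy
    exact up_affine' hV.fromSpec hZ hUf hev A s (IsOpenImmersion.lift hV.fromSpec s hs')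
      (IsOpenImmersion.lift_fac _ _ _) y hy'

/-- The universal property of a chart, on arbitrary affine `S`-schemes. -/
def IsChart (g : Z ⟶ S) (f : X ⟶ S) (V : S.Opens) (U : X.Opens) (P : Over S)
    (ξ : (Flatn.morS g f).obj (op P)) : Prop :=
  ∀ (A : CommRingCat.{u}) (s : Spec A ⟶ S) (y : (Flatn.morS g f).obj (op (Over.mk s))),
        Set.range s ⊆ V → Set.range (lf y) ⊆ U →
          ∃! k : Over.mk s ⟶ P, (Flatn.morS g f).map k.op ξ = y

theorem IsChart.mono {V : S.Opens} {U : X.Opens} {P : Over S} {ξ : (Flatn.morS g f).obj (op P)}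
    (h : IsChart g f V U P ξ) (hP : Set.range P.hom ⊆ V) (hξ : Set.range (lf ξ) ⊆ U)
    (T : Over S) (a b : T ⟶ P)
    (hab : (Flatn.morS g f).map a.op ξ = (Flatn.morS g f).map b.op ξ) : a = b := by
  apply hom_ext_local
  intro t
  obtain ⟨T₁, hT₁, ht, -⟩ := exists_isAffineOpen_mem_and_subset (X := T.left) (x := t) (U := ⊤) trivial
  refine ⟨T₁, ht, ?_⟩
  let j : Over.mk (hT₁.fromSpec ≫ T.hom) ⟶ T := Over.homMk hT₁.fromSpec rfl
  have hr : ∀ c : T ⟶ P, Set.range (lf ((Flatn.morS g f).map (j ≫ c).op ξ)) ⊆ U := by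
    intro c
    rw [lf_map]
    rintro _ ⟨z, rfl⟩
    exact hξ ⟨_, rfl⟩
  have hs : Set.range (hT₁.fromSpec ≫ T.hom) ⊆ V := by
    rintro _ ⟨z, rfl⟩
    apply hP
    refine ⟨a.left (hT₁.fromSpec z), ?_⟩
    rw [Scheme.Hom.comp_apply, ← Over.w a, Scheme.Hom.comp_apply]
  obtain ⟨k, -, hk⟩ := h Γ(T.left, T₁) (hT₁.fromSpec ≫ T.hom)
    ((Flatn.morS g f).map (j ≫ a).op ξ) hs (hr a)
  have h1 : j ≫ a = j ≫ b := by
    rw [hk (j ≫ a) rfl, hk (j ≫ b) (by
      change (Flatn.morS g f).map (j ≫ b).op ξ = (Flatn.morS g f).map (j ≫ a).op ξ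
      rw [map_comp_apply, map_comp_apply, hab])]
  apply Over.OverMorphism.ext
  have h2 : hT₁.fromSpec ≫ a.left = hT₁.fromSpec ≫ b.left := congrArg CommaMorphism.left h1
  change T₁.ι ≫ a.left = T₁.ι ≫ b.left
  rw [← hT₁.isoSpec_hom_fromSpec, Category.assoc, Category.assoc, h2]

theorem IsChart.exists_local {V : S.Opens} {U : X.Opens} {P : Over S}
    {ξ : (Flatn.morS g f).obj (op P)}
    (h : IsChart g f V U P ξ) (hcl : ∀ T : Over S, IsClosedMap (pullback.fst T.hom g))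
    (T : Over S) (x : (Flatn.morS g f).obj (op T)) (t : T.left) (ht : T.hom t ∈ V)
    (htU : ∀ z, pullback.fst T.hom g z = t → lf x z ∈ U) :
    ∃ (T₁ : T.left.Opens) (k : Over.mk (T₁.ι ≫ T.hom) ⟶ P),
      t ∈ T₁ ∧ (Flatn.morS g f).map k.op ξ = (Flatn.morS g f).map (res T T₁).op x := by
  let N : Set T.left := pullback.fst T.hom g '' (lf x ⁻¹' (U : Set X)ᶜ)
  have hN : IsClosed N := hcl T _ ((U.isOpen.isClosed_compl).preimage (lf x).continuous)
  let O : T.left.Opens := ⟨Nᶜ, hN.isOpen_compl⟩ ⊓ T.hom ⁻¹ᵁ V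
  have htO : t ∈ O := by
    refine ⟨?_, ht⟩
    rintro ⟨z, hz, hzt⟩
    exact hz (htU z hzt)
  obtain ⟨T₁, hT₁, ht₁, hT₁O⟩ := exists_isAffineOpen_mem_and_subset (X := T.left) (x := t) (U := O) htO
  let j : Over.mk (hT₁.fromSpec ≫ T.hom) ⟶ T := Over.homMk hT₁.fromSpec rfl
  have hjr : ∀ z, hT₁.fromSpec z ∈ O := fun z => hT₁O (by
    change hT₁.fromSpec z ∈ (T₁ : Set T.left)
    rw [← hT₁.range_fromSpec]
    exact ⟨z, rfl⟩)
  obtain ⟨k, hk, -⟩ := h Γ(T.left, T₁) (hT₁.fromSpec ≫ T.hom)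
    ((Flatn.morS g f).map j.op x) (by
      rintro _ ⟨z, rfl⟩
      exact (hjr z).2) (by
      rw [lf_map]
      rintro _ ⟨z, rfl⟩
      by_contra hcon
      have h1 := (hjr (pullback.fst (Over.mk (hT₁.fromSpec ≫ T.hom)).hom g z)).1
      apply h1
      refine ⟨pm g j z, hcon, ?_⟩
      rw [← Scheme.Hom.comp_apply, pm_fst]
      rfl)
  let i : Over.mk (T₁.ι ≫ T.hom) ⟶ Over.mk (hT₁.fromSpec ≫ T.hom) :=
    Over.homMk hT₁.isoSpec.hom (by
      change hT₁.isoSpec.hom ≫ hT₁.fromSpec ≫ T.hom = T₁.ι ≫ T.hom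
      rw [← Category.assoc, hT₁.isoSpec_hom_fromSpec])
  have hij : i ≫ j = res T T₁ := Over.OverMorphism.ext hT₁.isoSpec_hom_fromSpec
  refine ⟨T₁, i ≫ k, ht₁, ?_⟩
  rw [map_comp_apply, hk, ← map_comp_apply, hij]

end K251.MorS
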