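import Mathlib.FieldTheory.PurelyInseparable.PerfectClosure
import Mathlib.FieldTheory.SeparableClosure
import Mathlib.RingTheory.Polynomial.IsIntegral
import Mathlib.RingTheory.Polynomial.SeparableDegree
import Mathlib.RingTheory.AlgebraicIndependent.Transcendental
import Mathlib.RingTheory.AlgebraicIndependent.Adjoin
import Mathlib.RingTheory.Polynomial.UniqueFactorization

/-!
# Separable closedness under adjoining variables
-/

set_option autoImplicit false
universe u v w t

namespace Groth.Agent.FlatMor.K251.SepCl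

open Polynomial

/-- If `F` is separably closed in `E`, every element of `E` integral over `F` has a `q ^ n`-th power
in `F`, `q` the exponential characteristic. -/
theorem pow_mem_range {F : Type u} {E : Type v} [Field F] [Field E] [Algebra F E] (q : ℕ)
    [ExpChar F q] (h : ∀ a : E, IsSeparable F a → a ∈ (algebraMap F E).range) (a : E)
    (ha : IsIntegral F a) : ∃ n, a ^ q ^ n ∈ (algebraMap F E).range := by
  obtain ⟨g, hg, m, hm⟩ := (minpoly.irreducible ha).hasSeparableContraction q
  refine ⟨m, h _ ?_⟩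
  have h1 : aeval (a ^ q ^ m) g = 0 := by
    rw [← expand_aeval, hm, minpoly.aeval]
  exact hg.of_dvd (minpoly.dvd F _ h1)

/-- Polynomials all of whose coefficients have `q ^ n`-th powers in `F`. -/
theorem mvPolynomial_pow_mem {F : Type u} {E : Type v} [Field F] [Field E] [Algebra F E] (q : ℕ)
    [ExpChar F q] {ι : Type w} (c : MvPolynomial ι E)
    (hc : ∀ n, ∃ m, (c.coeff n) ^ q ^ m ∈ (algebraMap F E).range) :
    ∃ m, c ^ q ^ m ∈ (MvPolynomial.map (σ := ι) (algebraMap F E)).range := by
  classical
  have : ExpChar E q := expChar_of_injective_algebraMap (algebraMap F E).injective q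
  have : ExpChar (MvPolynomial ι E) q := inferInstance
  let R : Subring (MvPolynomial ι E) := (MvPolynomial.map (σ := ι) (algebraMap F E)).range
  have hmono : ∀ (x : MvPolynomial ι E) (m m' : ℕ), x ^ q ^ m ∈ R → x ^ q ^ (m + m') ∈ R := by
    intro x m m' hx
    rw [pow_add, pow_mul]
    exact pow_mem hx _
  have hadd : ∀ x y : MvPolynomial ι E, (∃ m, x ^ q ^ m ∈ R) → (∃ m, y ^ q ^ m ∈ R) →
      ∃ m, (x + y) ^ q ^ m ∈ R := by
    rintro x y ⟨m, hm⟩ ⟨m', hm'⟩
    refine ⟨m + m', ?_⟩
    rw [add_pow_expChar_pow]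
    refine add_mem (hmono _ _ _ hm) ?_
    rw [add_comm m m']
    exact hmono _ _ _ hm'
  have hsum : ∀ s : Finset (ι →₀ ℕ), ∃ m, (∑ n ∈ s, MvPolynomial.monomial n (c.coeff n)) ^ q ^ m ∈ R := by
    intro s
    induction s using Finset.induction_on with
    | empty =>
      refine ⟨0, ?_⟩
      simp only [Finset.sum_empty, pow_zero, pow_one]
      exact zero_mem _
    | insert n s hn ih =>
      rw [Finset.sum_insert hn]
      refine hadd _ _ ?_ ih
      obtain ⟨m, b, hb⟩ := hc n
      refine ⟨m, ?_⟩
      rw [MvPolynomial.monomial_pow, ← hb]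
      exact ⟨MvPolynomial.monomial (q ^ m • n) b, by rw [MvPolynomial.map_monomial]⟩
  have := hsum c.support
  rwa [← MvPolynomial.as_sum] at this

theorem exists_eq_of_isIntegralElem {R : Type u} {Ω : Type v} [CommRing R] [IsDomain R]
    [IsIntegrallyClosed R] [Field Ω] (φ : R →+* Ω) (hφ : Function.Injective φ) (r s : R) (z : Ω)
    (hz : z = φ r / φ s) (h : φ.IsIntegralElem z) : ∃ c, φ c = z := by
  let K := FractionRing R
  let φ' : K →+* Ω := IsFractionRing.lift (g := φ) hφ
  have e : ∀ a, φ' (algebraMap R K a) = φ a := fun a => IsFractionRing.lift_algebraMap hφ a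
  have e' : φ'.comp (algebraMap R K) = φ := RingHom.ext e
  have hz' : φ' (algebraMap R K r / algebraMap R K s) = z := by
    rw [map_div₀, e, e, hz]
  have h1 : (φ'.comp (algebraMap R K)).IsIntegralElem
      (φ' (algebraMap R K r / algebraMap R K s)) := by
    rw [hz', e']
    exact h
  have h2 : IsIntegral R (algebraMap R K r / algebraMap R K s) := h1.of_map φ'.injective
  obtain ⟨c, hc⟩ := IsIntegrallyClosed.isIntegral_iff.mp h2
  exact ⟨c, by rw [← e, hc, hz']⟩

open scoped IntermediateField.algebraAdjoinAdjoin in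
/-- Let `F` be separably closed in `E` and `x` a family algebraically independent over `E`. Then
`F(x)` is separably closed in `E(x)`. -/
theorem mem_adjoin_of_isSeparable {F : Type u} {E : Type v} {Ω : Type w} [Field F] [Field E]
    [Field Ω] [Algebra F E] [Algebra E Ω] [Algebra F Ω] [IsScalarTower F E Ω]
    (h : ∀ a : E, IsSeparable F a → a ∈ (algebraMap F E).range) {ι : Type t} (x : ι → Ω)
    (hx : AlgebraicIndependent E x) (β : Ω)
    (hβE : β ∈ IntermediateField.adjoin E (Set.range x))
    (hβ : IsSeparable (IntermediateField.adjoin F (Set.range x)) β) :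
    β ∈ IntermediateField.adjoin F (Set.range x) := by
  classical
  obtain ⟨q, hq⟩ := ExpChar.exists F
  have hxF : AlgebraicIndependent F x := hx.restrictScalars (algebraMap F E).injective
  let A := Algebra.adjoin F (Set.range x)
  let B := IntermediateField.adjoin F (Set.range x)
  have halg : IsAlgebraic A β :=
    (IsFractionRing.isAlgebraic_iff A B Ω).mpr hβ.isIntegral.isAlgebraic
  obtain ⟨d, hd0, hd⟩ := halg.exists_integral_multiple
  let φ : MvPolynomial ι E →ₐ[E] Ω := MvPolynomial.aeval x
  have hφ : Function.Injective φ := hx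
  let ψ : MvPolynomial ι F →+* MvPolynomial ι E := MvPolynomial.map (algebraMap F E)
  let φF : MvPolynomial ι F →ₐ[F] Ω := MvPolynomial.aeval x
  have hcomp : ∀ p, φ (ψ p) = φF p := fun p => by
    simp only [φ, ψ, φF]
    rw [MvPolynomial.aeval_map_algebraMap]
  have hcomp' : φ.toRingHom.comp ψ = φF.toRingHom := RingHom.ext hcomp
  -- integrality over the polynomial ring
  have h1 : φF.toRingHom.IsIntegralElem (d • β) := by
    obtain ⟨P, hP, hP0⟩ := hd
    let e := hxF.aevalEquiv
    have he : φF.toRingHom.comp (e.symm : A →+* MvPolynomial ι F) = algebraMap A Ω := by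
      ext a
      obtain ⟨a, rfl⟩ := e.surjective a
      change φF (e.symm (e a)) = _
      rw [AlgEquiv.symm_apply_apply]
      rfl
    refine ⟨P.map (e.symm : A →+* MvPolynomial ι F), hP.map _, ?_⟩
    rw [Polynomial.eval₂_map, he]
    exact hP0
  obtain ⟨c, hc⟩ : ∃ c : MvPolynomial ι E, φ c = d • β := by
    obtain ⟨r, s, hrs⟩ := (IntermediateField.mem_adjoin_range_iff E x β).mp hβE
    have hdr : ∃ d' : MvPolynomial ι E, φ d' = (d : Ω) := by
      refine ⟨ψ (hxF.aevalEquiv.symm d), ?_⟩
      rw [hcomp]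
      have := congrArg Subtype.val (hxF.aevalEquiv.apply_symm_apply d)
      exact this
    obtain ⟨d', hd'⟩ := hdr
    refine exists_eq_of_isIntegralElem φ.toRingHom hφ (d' * r) s (d • β) ?_ ?_
    · change d • β = φ (d' * r) / φ s
      rw [map_mul, hd', mul_div_assoc]
      change _ = (d : Ω) * (MvPolynomial.aeval x r / MvPolynomial.aeval x s)
      rw [← hrs]
      rfl
    · have h2 : (φ.toRingHom.comp ψ).IsIntegralElem (d • β) := by rw [hcomp']; exact h1
      exact h2.of_comp
  have h2 : ψ.IsIntegralElem c := by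
    have h3 : (φ.toRingHom.comp ψ).IsIntegralElem (φ c) := by rw [hcomp', hc]; exact h1
    exact h3.of_map hφ
  have h3 : ∀ n, IsIntegral F (c.coeff n) := MvPolynomial.isIntegral_iff_isIntegral_coeff.mp h2
  obtain ⟨m, c', hc'⟩ := mvPolynomial_pow_mem q c fun n => pow_mem_range q h _ (h3 n)
  have h4 : (d • β) ^ q ^ m ∈ B := by
    rw [← hc, ← map_pow, ← hc']
    change φ (ψ c') ∈ B
    rw [hcomp]
    exact IntermediateField.algebra_adjoin_le_adjoin F _ (hxF.aevalEquiv c').2
  have hdB : (d : Ω) ∈ B := IntermediateField.algebra_adjoin_le_adjoin F _ d.2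
  have hdne : (d : Ω) ≠ 0 := fun h0 => hd0 (Subtype.ext h0)
  have h5 : β ^ q ^ m ∈ B := by
    have e1 : β ^ q ^ m = (d • β) ^ q ^ m / (d : Ω) ^ q ^ m := by
      rw [Algebra.smul_def, mul_pow, mul_div_assoc, eq_comm]
      change (d : Ω) ^ q ^ m * _ = _
      field_simp
    rw [e1]
    exact div_mem h4 (pow_mem hdB _)
  have : ExpChar B q := expChar_of_injective_algebraMap (algebraMap F B).injective q
  have h6 : β ∈ perfectClosure B Ω :=
    (mem_perfectClosure_iff_pow_mem q).mpr ⟨m, ⟨⟨_, h5⟩, rfl⟩⟩
  have h7 : β ∈ separableClosure B Ω ⊓ perfectClosure B Ω :=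
    ⟨mem_separableClosure_iff.mpr hβ, h6⟩
  rw [separableClosure_inf_perfectClosure] at h7
  obtain ⟨b, rfl⟩ := IntermediateField.mem_bot.mp h7
  exact b.2

end Groth.Agent.FlatMor.K251.SepCl
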