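import Groth.Agent.FlatMor.K251.SepCl
import Groth.Agent.Flat2E.FinSepClosure
import Mathlib.FieldTheory.PrimitiveElement

/-!
# The pencil lemma: `F(ξ + a δ)` is separably closed in `Ω` for almost all `a`
-/

set_option autoImplicit false
universe u v w t

namespace Groth.Agent.FlatMor.K251.SepCl

open Polynomial IntermediateField

/-- `β` is a root of a separable polynomial with coefficients in `S`. -/
def SepOver {Ω : Type u} [Field Ω] (S : Set Ω) (β : Ω) : Prop :=
  ∃ f : Ω[X], f.Separable ∧ f.eval β = 0 ∧ ∀ n, f.coeff n ∈ S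

theorem sepOver_iff {A : Type v} {Ω : Type u} [Field Ω] [Field A] [Algebra A Ω] (β : Ω) :
    IsSeparable A β ↔ SepOver (Set.range (algebraMap A Ω)) β := by
  constructor
  · intro h
    refine ⟨(minpoly A β).map (algebraMap A Ω), Polynomial.Separable.map h, ?_, fun n => ?_⟩
    · rw [Polynomial.eval_map_algebraMap, minpoly.aeval]
    · rw [Polynomial.coeff_map]
      exact ⟨_, rfl⟩
  · rintro ⟨f, hf, h0, hc⟩
    obtain ⟨g, rfl⟩ : ∃ g : A[X], g.map (algebraMap A Ω) = f := by
      rw [← Polynomial.mem_lifts, Polynomial.lifts_iff_coeff_lifts]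
      exact hc
    rw [Polynomial.separable_map] at hf
    rw [Polynomial.eval_map_algebraMap] at h0
    exact hf.of_dvd (minpoly.dvd A _ h0)

theorem SepOver.mono {Ω : Type u} [Field Ω] {S T : Set Ω} (hST : S ⊆ T) {β : Ω}
    (h : SepOver S β) : SepOver T β := by
  obtain ⟨f, hf, h0, hc⟩ := h
  exact ⟨f, hf, h0, fun n => hST (hc n)⟩

theorem SepOver.image {Ω : Type u} [Field Ω] {S : Set Ω} {β : Ω} (h : SepOver S β)
    (σ : Ω →+* Ω) : SepOver (σ '' S) (σ β) := by
  obtain ⟨f, hf, h0, hc⟩ := h
  refine ⟨f.map σ, hf.map, ?_, fun n => ?_⟩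
  · rw [Polynomial.eval_map, Polynomial.eval₂_at_apply, h0, map_zero]
  · rw [Polynomial.coeff_map]
    exact ⟨_, hc n, rfl⟩

theorem sepOver_coe_iff {k : Type v} {Ω : Type u} [Field k] [Field Ω] [Algebra k Ω]
    (A : IntermediateField k Ω) (β : Ω) : IsSeparable A β ↔ SepOver (A : Set Ω) β := by
  rw [sepOver_iff]
  have : Set.range (algebraMap A Ω) = (A : Set Ω) := Subtype.range_coe
  rw [this]

open scoped IntermediateField.algebraAdjoinAdjoin in
theorem isAlgebraic_adjoin_iff {F : Type v} {Ω : Type u} [Field F] [Field Ω] [Algebra F Ω]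
    (S : Set Ω) (β : Ω) :
    IsAlgebraic (Algebra.adjoin F S) β ↔ IsAlgebraic (IntermediateField.adjoin F S) β :=
  IsFractionRing.isAlgebraic_iff (Algebra.adjoin F S) (IntermediateField.adjoin F S) Ω

/-- An invertible linear change of a pair of algebraically independent elements. -/
theorem pair_change {F : Type v} {Ω : Type u} [Field F] [Field Ω] [Algebra F Ω] {ξ δ : Ω}
    (h : AlgebraicIndependent F ![ξ, δ]) (a b : F) (hab : a ≠ b) :
    AlgebraicIndependent F ![ξ + algebraMap F Ω a * δ, ξ + algebraMap F Ω b * δ] := by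
  let f : Fin 2 → MvPolynomial (Fin 2) F :=
    ![MvPolynomial.X 0 + MvPolynomial.C a * MvPolynomial.X 1,
      MvPolynomial.X 0 + MvPolynomial.C b * MvPolynomial.X 1]
  let g : Fin 2 → MvPolynomial (Fin 2) F :=
    ![MvPolynomial.C (b - a)⁻¹ * (MvPolynomial.C b * MvPolynomial.X 0 -
        MvPolynomial.C a * MvPolynomial.X 1),
      MvPolynomial.C (b - a)⁻¹ * (MvPolynomial.X 1 - MvPolynomial.X 0)]
  have hba : b - a ≠ 0 := sub_ne_zero.mpr hab.symm
  have hu : (MvPolynomial.C (b - a)⁻¹ : MvPolynomial (Fin 2) F) * (MvPolynomial.C b -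
      MvPolynomial.C a) = 1 := by
    rw [← MvPolynomial.C_sub, ← MvPolynomial.C_mul, inv_mul_cancel₀ hba, MvPolynomial.C_1]
  have hfg : ∀ p, MvPolynomial.aeval g (MvPolynomial.aeval f p) = p := by
    intro p
    have : (MvPolynomial.aeval g).comp (MvPolynomial.aeval f) =
        AlgHom.id F (MvPolynomial (Fin 2) F) := by
      ext1 i
      fin_cases i
      · simp only [f, g, Fin.zero_eta, AlgHom.comp_apply, MvPolynomial.aeval_X, Matrix.cons_val_zero,
          map_add, map_mul, Matrix.cons_val_one, AlgHom.id_apply, MvPolynomial.aeval_C,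
          MvPolynomial.algebraMap_eq]
        linear_combination (MvPolynomial.X 0 : MvPolynomial (Fin 2) F) * hu
      · simp only [f, g, Fin.mk_one, AlgHom.comp_apply, MvPolynomial.aeval_X, Matrix.cons_val_zero,
          map_add, map_mul, Matrix.cons_val_one, AlgHom.id_apply, MvPolynomial.aeval_C,
          MvPolynomial.algebraMap_eq]
        linear_combination (MvPolynomial.X 1 : MvPolynomial (Fin 2) F) * hu
    exact congr($this p)
  have hf : AlgebraicIndependent F f :=
    Function.LeftInverse.injective (g := MvPolynomial.aeval g) hfg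
  have := h.aeval_of_algebraicIndependent hf
  convert this using 1
  ext i
  fin_cases i <;> simp [f]

theorem transcendental_of_pair {F : Type v} {Ω : Type u} [Field F] [Field Ω] [Algebra F Ω] {s t : Ω}
    (h : AlgebraicIndependent F ![s, t]) :
    Transcendental (IntermediateField.adjoin F {s}) t := by
  intro halg
  rw [← isAlgebraic_adjoin_iff] at halg
  have := (AlgebraicIndependent.iff_transcendental_adjoin_image (1 : Fin 2)).mp h
  refine this.2 ?_
  have himg : ![s, t] '' {1}ᶜ = {s} := by
    ext x
    constructor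
    · rintro ⟨i, hi, rfl⟩
      fin_cases i
      · rfl
      · exact absurd rfl hi
    · rintro rfl
      exact ⟨0, by simp, rfl⟩
    
  rw [himg]
  exact halg

theorem exists_ne_inclusion {F Ω : Type u} [Field F] [Field Ω] [Algebra F Ω]
    [Algebra.EssFiniteType F Ω] (S : ℕ → Set Ω)
    (hS : ∀ r, ∀ β ∈ S r, IsSeparable F β) :
    ∃ r r', r ≠ r' ∧ S r' ⊆ IntermediateField.adjoin F (S r) := by
  let M := separableClosure F Ω
  have : FiniteDimensional F M := Flat2E.FinSepClosure.finiteDimensional_separableClosure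
  have : Algebra.IsSeparable F M := inferInstance
  have hfin : Finite (IntermediateField F M) :=
    (Field.exists_primitive_element_iff_finite_intermediateField F M).mp
      ⟨inferInstance, Field.exists_primitive_element F M⟩ 
  have hle : ∀ r, IntermediateField.adjoin F (S r) ≤ M := fun r =>
    IntermediateField.adjoin_le_iff.mpr fun β hβ => mem_separableClosure_iff.mpr (hS r β hβ)
  obtain ⟨r, r', hne, heq⟩ := Finite.exists_ne_map_eq_of_infinite
    (fun r : ℕ => IntermediateField.restrict (hle r))
  refine ⟨r, r', hne, fun β hβ => ?_⟩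
  have h1 : (⟨β, hle r' (IntermediateField.subset_adjoin F _ hβ)⟩ : M) ∈
      IntermediateField.restrict (hle r') :=
    (IntermediateField.mem_restrict _ _).mpr (IntermediateField.subset_adjoin F _ hβ)
  rw [← (show IntermediateField.restrict (hle r) = IntermediateField.restrict (hle r') from heq)]
    at h1
  exact (IntermediateField.mem_restrict _ _).mp h1

/-- **Pencil lemma.** Let `F` be separably closed in `Ω`, `Ω` finitely generated over `F`, and
`ξ, δ` algebraically independent over `F`. For pairwise distinct `a r ∈ F`, some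
`F(ξ + a r * δ)` is separably closed in `Ω`. -/
theorem exists_pencil {F Ω : Type u} [Field F] [Field Ω] [Algebra F Ω] [Algebra.EssFiniteType F Ω]
    (h : ∀ a : Ω, IsSeparable F a → a ∈ (algebraMap F Ω).range)
    {ξ δ : Ω} (hind : AlgebraicIndependent F ![ξ, δ]) (a : ℕ → F) (ha : Function.Injective a) :
    ∃ r, ∀ β : Ω, IsSeparable (IntermediateField.adjoin F {ξ + algebraMap F Ω (a r) * δ}) β →
      β ∈ IntermediateField.adjoin F {ξ + algebraMap F Ω (a r) * δ} := by
  let s : ℕ → Ω := fun r => ξ + algebraMap F Ω (a r) * δ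
  let L : ℕ → IntermediateField F Ω := fun r => IntermediateField.adjoin F {s r}
  let K₂ : IntermediateField F Ω := IntermediateField.adjoin F {ξ, δ}
  have hξ : ξ ∈ K₂ := IntermediateField.subset_adjoin F _ (by simp)
  have hδ : δ ∈ K₂ := IntermediateField.subset_adjoin F _ (by simp)
  have hsK : ∀ r, s r ∈ K₂ := fun r => add_mem hξ (mul_mem (K₂.algebraMap_mem _) hδ)
  have hLK : ∀ r, L r ≤ K₂ := fun r => IntermediateField.adjoin_le_iff.mpr
    (Set.singleton_subset_iff.mpr (hsK r))
  have : Algebra.EssFiniteType K₂ Ω := .of_comp F K₂ Ω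
  obtain ⟨r, r', hne, hsub⟩ := exists_ne_inclusion (F := K₂)
    (fun r => (separableClosure (L r) Ω : Set Ω)) (by
      intro r β hβ
      rw [sepOver_coe_iff]
      refine SepOver.mono (hLK r) ((sepOver_coe_iff (L r) β).mp ?_)
      exact mem_separableClosure_iff.mp hβ)
  refine ⟨r', fun β hβ => ?_⟩
  have hpair := pair_change hind (a r) (a r') (ha.ne hne)
  have htr : Transcendental (L r) (s r') := transcendental_of_pair hpair
  let E := separableClosure (L r) Ω
  have hEalg : Algebra.IsAlgebraic (L r) E := inferInstance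
  have htrE : Transcendental E (s r') := fun h0 =>
    htr ((Algebra.IsAlgebraic.isAlgebraic_iff (R := L r) (S := E)).mpr h0)
  -- `β` lies in `E(s r')`
  have hβ1 : β ∈ IntermediateField.adjoin K₂ (E : Set Ω) :=
    hsub (mem_separableClosure_iff.mpr hβ)
  have hle : (IntermediateField.adjoin K₂ (E : Set Ω) : Set Ω) ⊆
      IntermediateField.adjoin E {s r'} := by
    have hsr : s r ∈ IntermediateField.adjoin E {s r'} := by
      have h1 : s r ∈ L r := IntermediateField.subset_adjoin F _ (Set.mem_singleton _)
      have h2 : s r ∈ E := E.algebraMap_mem ⟨s r, h1⟩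
      exact (IntermediateField.adjoin E {s r'}).algebraMap_mem ⟨s r, h2⟩
    have hsr' : s r' ∈ IntermediateField.adjoin E {s r'} :=
      IntermediateField.subset_adjoin E _ (Set.mem_singleton _)
    have hF : ∀ c : F, algebraMap F Ω c ∈ IntermediateField.adjoin E {s r'} := fun c => by
      have h1 : algebraMap F Ω c ∈ L r := (L r).algebraMap_mem c
      have h2 : algebraMap F Ω c ∈ E := E.algebraMap_mem ⟨_, h1⟩
      exact (IntermediateField.adjoin E {s r'}).algebraMap_mem ⟨_, h2⟩
    have hab : a r - a r' ≠ 0 := sub_ne_zero.mpr (ha.ne hne)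
    have hab' : algebraMap F Ω (a r - a r') ≠ 0 := by
      rwa [Ne, map_eq_zero]
    have hδ' : δ ∈ IntermediateField.adjoin E {s r'} := by
      have h1 : δ = (s r - s r') / algebraMap F Ω (a r - a r') := by
        rw [eq_div_iff hab']
        simp only [s, map_sub]
        ring
      rw [h1]
      exact div_mem (sub_mem hsr hsr') (hF _)
    have hξ' : ξ ∈ IntermediateField.adjoin E {s r'} := by
      have h1 : ξ = s r' - algebraMap F Ω (a r') * δ := by
        simp only [s]
        ring
      rw [h1]
      exact sub_mem hsr' (mul_mem (hF _) hδ')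
    rw [IntermediateField.adjoin_subset_adjoin_iff]
    constructor
    · rintro _ ⟨y, rfl⟩
      have h1 : (K₂ : Set Ω) ⊆ IntermediateField.adjoin E {s r'} := by
        rw [IntermediateField.adjoin_subset_adjoin_iff]
        refine ⟨?_, ?_⟩
        · rintro _ ⟨c, rfl⟩
          exact hF c
        · rintro _ (rfl | rfl)
          · exact hξ'
          · exact hδ'
      exact h1 y.2
    · intro y hy
      exact (IntermediateField.adjoin E {s r'}).algebraMap_mem ⟨y, hy⟩
  have hβ2 := hle hβ1
  have hrange : Set.range (fun _ : Unit => s r') = {s r'} := by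
    ext y
    simp
  have hsc : IsScalarTower F E Ω := IsScalarTower.of_algebraMap_eq fun _ => rfl
  have hFE : ∀ c : E, IsSeparable F c → c ∈ (algebraMap F E).range := by
    intro c hc
    have h1 : IsSeparable F (c : Ω) := by
      rw [IsSeparable] at hc ⊢
      rwa [← minpoly.algebraMap_eq (algebraMap E Ω).injective] at hc
    obtain ⟨d, hd⟩ := h _ h1
    exact ⟨d, Subtype.ext hd⟩
  have hx : AlgebraicIndependent E (fun _ : Unit => s r') :=
    algebraicIndependent_unique_type_iff.mpr htrE
  have key := mem_adjoin_of_isSeparable (F := F) (E := E) (Ω := Ω) hFE (fun _ : Unit => s r') hx β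
    (by rw [hrange]; exact hβ2) (by
      rw [sepOver_coe_iff, hrange, ← sepOver_coe_iff]
      exact hβ)
  rw [hrange] at key
  exact key

end Groth.Agent.FlatMor.K251.SepCl
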