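import Groth.Agent.Ega4B.DimFT2
import Mathlib.Algebra.MvPolynomial.Polynomial
import Mathlib.RingTheory.AlgebraicIndependent.Transcendental
import Mathlib.RingTheory.AlgebraicIndependent.Defs
import Mathlib.RingTheory.KrullDimension.Polynomial
import Mathlib.RingTheory.KrullDimension.Field

/-!
# Algebraic independence by specialization
-/

set_option autoImplicit false
universe u v w

namespace Groth.Agent.FlatMor.K251.SpecInd

open MvPolynomial

/-- If the values at `T = l` of polynomials `a j ∈ B[T]` are algebraically independent over `k`,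
then `T` and the `a j` are algebraically independent over `k`. -/
theorem option_polynomial {k : Type u} {B : Type v} {J : Type w} [Field k] [CommRing B]
    [Algebra k B] (a : J → Polynomial B) (l : k)
    (h : AlgebraicIndependent k (fun j => (a j).eval (algebraMap k B l))) :
    AlgebraicIndependent k (fun o : Option J => o.elim Polynomial.X a) := by
  classical
  rw [algebraicIndependent_iff]
  intro P hP
  by_contra hne
  -- the associated one variable polynomial over `MvPolynomial J k`
  let Q : Polynomial (MvPolynomial J k) := optionEquivLeft k J P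
  have hQ : Q ≠ 0 := fun h0 => hne ((optionEquivLeft k J).injective (h0.trans (map_zero _).symm))
  let φ : Polynomial (MvPolynomial J k) →+* Polynomial B :=
    Polynomial.eval₂RingHom (aeval (R := k) a).toRingHom Polynomial.X
  have hφ : ∀ R : MvPolynomial (Option J) k, φ (optionEquivLeft k J R) =
      aeval (fun o : Option J => o.elim Polynomial.X a) R := by
    intro R
    have e : (φ.comp ((optionEquivLeft k J : _ →+* _))) =
        (aeval (fun o : Option J => o.elim Polynomial.X a) :
          MvPolynomial (Option J) k →ₐ[k] Polynomial B).toRingHom := by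
      apply MvPolynomial.ringHom_ext
      · intro r
        simp [φ]
      · rintro (_ | j)
        · simp [φ]
        · simp [φ]
    exact congr($e R)
  have hφQ : φ Q = 0 := (hφ P).trans hP
  obtain ⟨q, hq, hnd⟩ := Polynomial.exists_eq_pow_rootMultiplicity_mul_and_not_dvd Q hQ (C l)
  have hφX : φ (Polynomial.X - Polynomial.C (C l)) = Polynomial.X - Polynomial.C (algebraMap k B l) := by
    simp [φ, Polynomial.algebraMap_apply]
  have hq0 : φ q = 0 := by
    rw [hq, map_mul, map_pow, hφX] at hφQ
    have hm : (Polynomial.X - Polynomial.C (algebraMap k B l)).Monic :=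
      Polynomial.monic_X_sub_C _
    exact ((hm.pow _).mul_right_eq_zero_iff).mp hφQ
  have hev : (Polynomial.evalRingHom (algebraMap k B l)).comp φ =
      ((aeval (R := k) (fun j => (a j).eval (algebraMap k B l))).toRingHom).comp
        (Polynomial.evalRingHom (C l)) := by
    apply Polynomial.ringHom_ext
    · intro r
      simp only [φ, RingHom.comp_apply, Polynomial.coe_evalRingHom, Polynomial.coe_eval₂RingHom,
        Polynomial.eval₂_C, Polynomial.eval_C, AlgHom.toRingHom_eq_coe, RingHom.coe_coe]
      have e2 : (Polynomial.evalRingHom (algebraMap k B l)).comp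
          (aeval (R := k) a : MvPolynomial J k →ₐ[k] Polynomial B).toRingHom =
          (aeval (R := k) (fun j => (a j).eval (algebraMap k B l)) :
            MvPolynomial J k →ₐ[k] B).toRingHom := by
        apply MvPolynomial.ringHom_ext
        · intro r
          simp [Polynomial.algebraMap_apply]
        · intro j
          simp
      exact congr($e2 r)
    · simp [φ]
  have hql : q.eval (C l) ≠ 0 := by
    intro h0
    exact hnd (Polynomial.dvd_iff_isRoot.mpr h0)
  apply hql
  have h2 := congr($hev q)
  simp only [RingHom.comp_apply, hq0, map_zero] at h2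
  exact (algebraicIndependent_iff.mp h) _ h2.symm

/-- If the values at `x = l` of polynomials `h j ∈ B[x_1, …, x_n]` are algebraically independent
over `k`, then the `x i` and the `h j` are algebraically independent over `k`. -/
theorem sumElim_mvPolynomial {k : Type u} {B : Type v} [Field k] [CommRing B] [Algebra k B]
    {n : ℕ} {J : Type w} (h : J → MvPolynomial (Fin n) B) (l : Fin n → k)
    (hl : AlgebraicIndependent k (fun j => eval (fun i => algebraMap k B (l i)) (h j))) :
    AlgebraicIndependent k (Sum.elim h (fun i : Fin n => (X i : MvPolynomial (Fin n) B))) := by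
  induction n generalizing J with
  | zero =>
    have h1 : AlgebraicIndependent k h := by
      refine AlgebraicIndependent.of_comp
        ((aeval (R := B) (fun i : Fin 0 => algebraMap k B (l i))).restrictScalars k) ?_
      convert hl using 2 with j
      exact congr($(MvPolynomial.coe_aeval_eq_eval (fun i : Fin 0 => algebraMap k B (l i))) (h j))
    refine (algebraicIndependent_equiv' (Equiv.sumEmpty J (Fin 0)) ?_).mpr h1
    ext (j | j)
    · rfl
    · exact j.elim0
  | succ n ih =>
    let e : MvPolynomial (Fin (n + 1)) B →ₐ[k] Polynomial (MvPolynomial (Fin n) B) :=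
      (finSuccEquiv B n).toAlgHom.restrictScalars k
    have he : Function.Injective e := (finSuccEquiv B n).injective
    refine (AlgHom.algebraicIndependent_iff e he).mp ?_
    let h'' : J → MvPolynomial (Fin n) B := fun j =>
      (finSuccEquiv B n (h j)).eval (algebraMap k _ (l 0))
    have h3 := ih h'' (Fin.tail l) (by
      convert hl using 2 with j
      rw [MvPolynomial.eval_polynomial_eval_finSuccEquiv]
      congr 2
      ext i
      refine Fin.cases ?_ ?_ i
      · simp [MvPolynomial.algebraMap_apply]
      · intro i
        rfl)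
    have h4 := option_polynomial (k := k) (Sum.elim (fun j => finSuccEquiv B n (h j))
      (fun i : Fin n => Polynomial.C (X i : MvPolynomial (Fin n) B))) (l 0) (by
        convert h3 using 2 with j
        rcases j with j | j
        · rfl
        · simp)
    let ε : J ⊕ Fin (n + 1) ≃ Option (J ⊕ Fin n) :=
      (Equiv.sumCongr (Equiv.refl J) (_root_.finSuccEquiv n)).trans
        ((Equiv.sumCongr (Equiv.refl J) (Equiv.optionEquivSumPUnit.{0} (Fin n))).trans
          ((Equiv.sumAssoc J (Fin n) PUnit).symm.trans
            (Equiv.optionEquivSumPUnit (J ⊕ Fin n)).symm))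
    refine (algebraicIndependent_equiv' ε ?_).mpr h4
    ext1 (j | j)
    · rfl
    · refine Fin.cases ?_ ?_ j
      · have h5 : e (X 0) = Polynomial.X := finSuccEquiv_X_zero
        simpa [ε] using h5.symm
      · intro j
        have h5 : e (X j.succ) = Polynomial.C (X j) := finSuccEquiv_X_succ
        simpa [ε] using h5.symm

/-- In a ring of dimension at most `2`, a chain `q₀ < q₁ < q₂ ≤ q₃` of primes has `q₂ = q₃`. -/
lemma eq_of_chain {R : Type u} [CommRing R] (hR : ringKrullDim R ≤ 2) (q₀ q₁ q₂ q₃ : PrimeSpectrum R)
    (h₀ : q₀ < q₁) (h₁ : q₁ < q₂) (h₂ : q₂ ≤ q₃) : q₂ = q₃ := by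
  by_contra hne
  have h₂' : q₂ < q₃ := lt_of_le_of_ne h₂ hne
  let s : LTSeries (PrimeSpectrum R) :=
    ((RelSeries.singleton _ q₀).snoc q₁ h₀ |>.snoc q₂ (by simpa using h₁)).snoc q₃ (by simpa using h₂')
  have h3 : ((s.length : ℕ) : WithBot ℕ∞) ≤ ringKrullDim R := Order.LTSeries.length_le_krullDim s
  have h4 : s.length = 3 := rfl
  rw [h4] at h3
  have h5 := h3.trans hR
  exact absurd h5 (by decide)

/-- Elements cutting out a component of codimension two in an affine variety are algebraically
independent. -/
theorem pair_of_minimalPrimes {k A : Type u} [Field k] [CommRing A] [IsDomain A] [Algebra k A]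
    [Algebra.FiniteType k A] (a b : A) (p : Ideal A) (hp : p ∈ (Ideal.span {a, b}).minimalPrimes)
    (hdim : ringKrullDim (A ⧸ p) + 2 = ringKrullDim A) :
    AlgebraicIndependent k ![a, b] := by
  have hpp : p.IsPrime := hp.1.1
  have : IsNoetherianRing A := Algebra.FiniteType.isNoetherianRing k A
  have hht : (p.height : WithBot ℕ∞) + ringKrullDim (A ⧸ p) = ringKrullDim A :=
    Ega4B.DimFT2.height_add_dim k A p
  obtain ⟨d, -, hd⟩ := Ega4B.DimFT.exists_dim k (A ⧸ p)
  have h2 : p.height = 2 := by
    rw [← hdim, hd] at hht
    have h3 : ((p.height + (d : ℕ∞) : ℕ∞) : WithBot ℕ∞) = (((d : ℕ∞) + 2 : ℕ∞) : WithBot ℕ∞) := by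
      push_cast
      exact hht
    have h4 : p.height + (d : ℕ∞) = 2 + (d : ℕ∞) := by
      rw [add_comm 2]
      exact WithBot.coe_injective h3
    exact (ENat.add_left_injective_of_ne_top (ENat.natCast_ne_top d)) h4
  rw [AlgebraicIndependent]
  by_contra hinj
  let φ : MvPolynomial (Fin 2) k →ₐ[k] A := aeval ![a, b]
  obtain ⟨P, hP0, hP⟩ : ∃ P, P ≠ 0 ∧ φ P = 0 := by
    rw [injective_iff_map_eq_zero] at hinj
    push Not at hinj
    obtain ⟨P, h1, h2⟩ := hinj
    exact ⟨P, h2, h1⟩
  have ha : a ∈ p := hp.1.2 (Ideal.subset_span (by simp))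
  have hb : b ∈ p := hp.1.2 (Ideal.subset_span (by simp))
  -- a variable not in the kernel
  obtain ⟨i, hi⟩ : ∃ i : Fin 2, φ (X i) ≠ 0 := by
    by_contra hall
    push Not at hall
    have h1 : a = 0 := by simpa [φ] using hall 0
    have h2' : b = 0 := by simpa [φ] using hall 1
    rw [h1, h2', Set.pair_eq_singleton, Ideal.span_singleton_eq_bot.mpr rfl] at hp
    have h3 : p = ⊥ := le_bot_iff.mp (hp.2 ⟨Ideal.isPrime_bot, le_rfl⟩ bot_le)
    rw [h3, Ideal.height_bot] at h2
    exact absurd h2 (by decide)
  have hmem : φ (X i) ∈ p := by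
    fin_cases i
    · simpa [φ] using ha
    · simpa [φ] using hb
  have hmin : p ∈ (Ideal.span {φ (X i)}).minimalPrimes := by
    refine ⟨⟨hpp, (Ideal.span_singleton_le_iff_mem _).mpr hmem⟩, ?_⟩
    rintro q ⟨hq, hqi⟩ hqp
    refine hp.2 ⟨hq, ?_⟩ hqp
    have hcomap : q.comap φ.toRingHom = p.comap φ.toRingHom := by
      have := eq_of_chain (R := MvPolynomial (Fin 2) k) (by
        rw [MvPolynomial.ringKrullDim_of_isNoetherianRing, ringKrullDim_eq_zero_of_isField (Field.toIsField k)]
        simp) ⟨⊥, Ideal.isPrime_bot⟩ ⟨RingHom.ker φ.toRingHom, RingHom.ker_isPrime _⟩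
          ⟨q.comap φ.toRingHom, inferInstance⟩ ⟨p.comap φ.toRingHom, inferInstance⟩ ?_ ?_ ?_
      · exact congrArg PrimeSpectrum.asIdeal this
      · refine lt_of_le_of_ne bot_le fun h0 => hP0 ?_
        have h1 : P ∈ RingHom.ker φ.toRingHom := hP
        have h3 := congrArg PrimeSpectrum.asIdeal h0
        change (⊥ : Ideal _) = RingHom.ker φ.toRingHom at h3
        rw [← h3] at h1
        exact h1
      · refine lt_of_le_of_ne (fun x hx => ?_) fun h0 => hi ?_
        · have : φ x = 0 := hx
          change φ x ∈ q
          rw [this]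
          exact zero_mem _
        · have h1 : X i ∈ q.comap φ.toRingHom :=
            hqi (Ideal.subset_span (Set.mem_singleton _))
          have h3 := congrArg PrimeSpectrum.asIdeal h0
          change RingHom.ker φ.toRingHom = q.comap φ.toRingHom at h3
          rw [← h3] at h1
          exact h1
      · exact fun x hx => hqp hx
    rw [Ideal.span_le]
    rintro x (rfl | rfl)
    · have h1 : X 0 ∈ p.comap φ.toRingHom := by
        change φ (X 0) ∈ p
        simpa [φ] using ha
      rw [← hcomap] at h1
      have h3 : φ (X 0) ∈ q := h1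
      simpa [φ] using h3
    · have h1 : X 1 ∈ p.comap φ.toRingHom := by
        change φ (X 1) ∈ p
        simpa [φ] using hb
      rw [← hcomap] at h1
      have h3 : φ (X 1) ∈ q := h1
      simpa [φ] using h3
  have h3 := Ideal.height_le_one_of_isPrincipal_of_mem_minimalPrimes (Ideal.span {φ (X i)}) p hmin
  rw [h2] at h3
  exact absurd h3 (by decide)

end Groth.Agent.FlatMor.K251.SpecInd
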